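import Groth.Agent.GeomRedFieldLib.Stratify
import Groth.Agent.S0414

/-!
# Generic quasi-separatedness of a morphism of finite type over an integral affine scheme
-/

set_option autoImplicit false
set_option linter.style.haveILetI false
universe u

open CategoryTheory CategoryTheory.Limits AlgebraicGeometry TopologicalSpace

namespace UHGenRedLib

/-- A closed subset of the source whose generic fibre avoids an open set avoids it over a nonempty open. -/
theorem exists_opens_disjoint {X T : Scheme.{u}} (π : X ⟶ T) [IsIntegral T] [LocallyOfFiniteType π] [QuasiCompact π]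
    (C : Closeds X) (W : X.Opens) (h : ∀ z ∈ (C : Set X), π.base z = genericPoint ↥T → z ∉ W) :
    ∃ U : T.Opens, genericPoint ↥T ∈ U ∧ ∀ z ∈ (C : Set X), π.base z ∈ U → z ∉ W := by
  let I := Scheme.IdealSheafData.vanishingIdeal C
  obtain ⟨U, hUd, hfl, -⟩ := Groth.Agent.S0414.result (I.subschemeι ≫ π)
  haveI := hfl
  refine ⟨U, (genericPoint_spec ↥T).mem_open_set_iff U.2 |>.2 (by simpa using hUd.nonempty), fun z hz hzU hzW => ?_⟩
  obtain ⟨w, rfl⟩ : z ∈ Set.range I.subschemeι.base := by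
    rw [Scheme.IdealSheafData.range_subschemeι, Scheme.IdealSheafData.coe_support_vanishingIdeal]
    exact hz
  have hw : w ∈ (I.subschemeι ≫ π) ⁻¹ᵁ U := by
    show (I.subschemeι ≫ π).base w ∈ U
    rw [Scheme.Hom.comp_apply]
    exact hzU
  have hηU : genericPoint ↥T ∈ U := (genericPoint_spec ↥T).mem_open_set_iff U.2 |>.2 ⟨_, trivial, hzU⟩
  have hs : (⟨genericPoint ↥T, hηU⟩ : U) ⤳ ((I.subschemeι ≫ π) ∣_ U).base ⟨w, hw⟩ := by
    exact U.ι.isOpenEmbedding.isInducing.specializes_iff.1 ((genericPoint_spec ↥T).specializes trivial)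
  obtain ⟨w', hw', hw'e⟩ := Flat.generalizingMap ((I.subschemeι ≫ π) ∣_ U) hs
  have h1 : U.ι.base (((I.subschemeι ≫ π) ∣_ U).base w') = π.base (I.subschemeι.base w'.1) := by
    rw [← Scheme.Hom.comp_apply, morphismRestrict_ι]
    rfl
  refine h (I.subschemeι.base w'.1) ?_ ?_ ?_
  · have hr : I.subschemeι.base w'.1 ∈ Set.range I.subschemeι.base := ⟨_, rfl⟩
    rw [Scheme.IdealSheafData.range_subschemeι, Scheme.IdealSheafData.coe_support_vanishingIdeal] at hr
    exact hr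
  · rw [← h1, hw'e]
    rfl
  · have hsp : I.subschemeι.base w'.1 ⤳ I.subschemeι.base w :=
      (hw'.map (continuous_subtype_val)).map I.subschemeι.continuous
    exact hsp.mem_open W.2 hzW

/-- A morphism of finite type to an integral affine scheme is quasi-separated over a nonempty affine open. -/
theorem exists_opens_quasiSeparated {X T : Scheme.{u}} (π : X ⟶ T) [IsAffine T] [IsIntegral T]
    [LocallyOfFiniteType π] [QuasiCompact π] :
    ∃ U : T.Opens, IsAffineOpen U ∧ genericPoint ↥T ∈ U ∧ QuasiSeparated (π ∣_ U) := by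
  classical
  haveI : CompactSpace X := QuasiCompact.compactSpace_of_compactSpace π
  obtain ⟨s, hs⟩ : ∃ s : Finset X.affineOpens, (Set.univ : Set X) ⊆ ⋃ i ∈ s, ((i : X.Opens) : Set X) :=
    isCompact_univ.elim_finite_subcover _ (fun i => i.1.2) (fun x _ => by
      obtain ⟨V, hV, hxV, -⟩ := exists_isAffineOpen_mem_and_subset (X := X) (x := x) (U := ⊤) trivial
      exact Set.mem_iUnion.2 ⟨⟨V, hV⟩, hxV⟩)
  let η := genericPoint ↥T
  haveI : IsLocallyNoetherian (π.fiber η) :=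
    haveI : LocallyOfFiniteType (π.fiberToSpecResidueField η) :=
      inferInstanceAs (LocallyOfFiniteType (pullback.snd _ _))
    LocallyOfFiniteType.isLocallyNoetherian (π.fiberToSpecResidueField η)
  haveI : QuasiCompact (π.fiberToSpecResidueField η) := inferInstanceAs (QuasiCompact (pullback.snd _ _))
  haveI : CompactSpace (π.fiber η) := QuasiCompact.compactSpace_of_compactSpace (π.fiberToSpecResidueField η)
  haveI : AlgebraicGeometry.IsNoetherian (π.fiber η) := ⟨⟩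
  have key : ∀ i j : X.affineOpens, ∃ (W' : X.Opens) (Uij : T.Opens), IsCompact (W' : Set X) ∧ W' ≤ i.1 ⊓ j.1 ∧
      η ∈ Uij ∧ ∀ z : X, z ∈ i.1 ⊓ j.1 → π.base z ∈ Uij → z ∈ W' := by
    intro i j
    let W : X.Opens := i.1 ⊓ j.1
    have hc : IsCompact ((π.fiberι η).base '' ((π.fiberι η).base ⁻¹' (W : Set X))) :=
      (NoetherianSpace.isCompact _).image (π.fiberι η).continuous
    obtain ⟨t, ht⟩ := hc.elim_finite_subcover (fun a : {a : X.affineOpens // a.1 ≤ W} => ((a.1.1 : X.Opens) : Set X))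
      (fun a => a.1.1.2) (by
        rintro _ ⟨p, hp, rfl⟩
        obtain ⟨V, hV, hxV, hVW⟩ := exists_isAffineOpen_mem_and_subset (X := X) (U := W) hp
        exact Set.mem_iUnion.2 ⟨⟨⟨V, hV⟩, hVW⟩, hxV⟩)
    let W' : X.Opens := ⟨⋃ a ∈ t, ((a.1.1 : X.Opens) : Set X), isOpen_biUnion fun a _ => a.1.1.2⟩
    obtain ⟨Uij, hη, hU⟩ := exists_opens_disjoint π ⟨(W' : Set X)ᶜ, W'.2.isClosed_compl⟩ W (by
      intro z hz hzη hzW
      refine hz (ht ⟨(π.fiberHomeo η).symm ⟨z, hzη⟩, ?_, Scheme.Hom.fiberι_fiberHomeo_symm _ _ _⟩)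
      show (π.fiberι η).base _ ∈ W
      rw [Scheme.Hom.fiberι_fiberHomeo_symm]
      exact hzW)
    refine ⟨W', Uij, t.finite_toSet.isCompact_biUnion (fun a _ => a.1.2.isCompact), ?_, hη, fun z hzW hzU => ?_⟩
    · intro z hz
      obtain ⟨a, -, hza⟩ := Set.mem_iUnion₂.1 hz
      exact a.2 hza
    · by_contra hz
      exact hU z hz hzU hzW
  choose W' Uij hW'c hW'le hη hUij using key
  let U0 : T.Opens := ⟨⋂ p ∈ s ×ˢ s, ((Uij p.1 p.2 : T.Opens) : Set T),
    isOpen_biInter_finset fun p _ => (Uij p.1 p.2).2⟩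
  obtain ⟨U, hU, hηU, hUU0⟩ := exists_isAffineOpen_mem_and_subset (X := T) (U := U0)
    (show η ∈ U0 from Set.mem_iInter₂.2 fun p _ => hη p.1 p.2)
  refine ⟨U, hU, hηU, ?_⟩
  let j := (π ⁻¹ᵁ U).ι
  haveI : IsAffine (U : Scheme.{u}) := hU
  have haff : ∀ i : X.affineOpens, IsAffineOpen (i.1 ⊓ π ⁻¹ᵁ U) := by
    intro i
    haveI : IsAffine (i.1 : Scheme.{u}) := i.2
    haveI : IsAffineHom (i.1.ι ≫ π) := isAffineHom_of_isAffine _
    have h := (hU.preimage (i.1.ι ≫ π)).image_of_isOpenImmersion i.1.ι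
    convert h using 1
    rw [Scheme.Hom.comp_preimage]
    rw [Scheme.Hom.image_preimage_eq_opensRange_inf, Scheme.Opens.opensRange_ι]
  rw [quasiSeparated_iff_quasiSeparatedSpace]
  refine Scheme.quasiSeparatedSpace_of_isOpenCover (I := s) (fun i => j ⁻¹ᵁ i.1.1) ?_ (fun i => ?_) fun i i' => ?_
  · refine TopologicalSpace.Opens.ext (Set.eq_univ_of_forall fun z => ?_)
    obtain ⟨i, hi, hzi⟩ := Set.mem_iUnion₂.1 (hs (Set.mem_univ (j.base z)))
    exact TopologicalSpace.Opens.mem_iSup.2 ⟨⟨i, hi⟩, hzi⟩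
  · rw [← Scheme.Hom.isAffineOpen_iff_of_isOpenImmersion j, Scheme.Hom.image_preimage_eq_opensRange_inf,
      Scheme.Opens.opensRange_ι, inf_comm]
    exact haff i.1
  · rw [j.isOpenEmbedding.isInducing.isCompact_iff]
    have e : j.base '' ((j ⁻¹ᵁ i.1.1 : Set _) ∩ (j ⁻¹ᵁ i'.1.1 : Set _)) =
        ((i.1.1 ⊓ π ⁻¹ᵁ U : X.Opens) : Set X) ∩ (W' i.1 i'.1 : Set X) := by
      ext z
      constructor
      · rintro ⟨z, ⟨h1, h2⟩, rfl⟩
        refine ⟨⟨h1, z.2⟩, hUij i.1 i'.1 _ ⟨h1, h2⟩ ?_⟩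
        exact Set.mem_iInter₂.1 (hUU0 z.2) (i.1, i'.1) (Finset.mem_product.2 ⟨i.2, i'.2⟩)
      · rintro ⟨⟨h1, h3⟩, h4⟩
        exact ⟨⟨z, h3⟩, ⟨h1, (hW'le _ _ h4).2⟩, rfl⟩
    rw [e]
    exact i.1.2.isQuasiSeparated _ _ (fun z hz => hz.1) (i.1.1 ⊓ π ⁻¹ᵁ U).2 (haff i.1).isCompact
      (fun z hz => (hW'le _ _ hz).1) (W' i.1 i'.1).2 (hW'c _ _)

end UHGenRedLib
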