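import Groth.Agent.UHGenRedLib.Model
import Groth.Agent.UHGenRedLib.GenericQS
import Groth.Agent.MiscFlat6.ReducedImage
import Groth.Agent.S1629
import Groth.Agent.S0414
import Groth.Agent.S4626
import Groth.Prelude.Def_Curv2

/-!
# Making the generic fibre geometrically reduced by a finite universal homeomorphism
-/

set_option autoImplicit false
set_option linter.style.haveILetI false
universe u

open CategoryTheory CategoryTheory.Limits AlgebraicGeometry TopologicalSpace

namespace UHGenRedLib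

theorem isReduced_of_flat_isPreimmersion {X Y : Scheme.{u}} (m : X ⟶ Y) [Flat m] [IsPreimmersion m] [IsReduced Y] :
    IsReduced X := by
  haveI : ∀ x : X, _root_.IsReduced (X.presheaf.stalk x) := fun x => by
    have hsurj := m.stalkMap_surjective x
    have hinj : Function.Injective (m.stalkMap x).hom := by
      have h := Flat.stalkMap m x
      algebraize [(m.stalkMap x).hom]
      have : Module.FaithfullyFlat (Y.presheaf.stalk (m x)) (X.presheaf.stalk x) :=
        @Module.FaithfullyFlat.of_flat_of_isLocalHom _ _ _ _ _ _ _ h (m.toLRSHom.prop x)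
      exact RingHom.FaithfullyFlat.injective (f := (m.stalkMap x).hom) ‹_›
    exact isReduced_of_injective (RingEquiv.ofBijective _ ⟨hinj, hsurj⟩).symm.toRingHom
      (RingEquiv.ofBijective _ ⟨hinj, hsurj⟩).symm.injective
  exact isReduced_of_isReduced_stalk X

theorem isPullback_congr {P A B C : Scheme.{u}} {a : P ⟶ A} {b : P ⟶ B} {c : A ⟶ C} {d d' : B ⟶ C}
    (h : IsPullback a b c d) (e : d = d') : IsPullback a b c d' := e ▸ h

/-- A finite universal homeomorphism onto an affine open whose function field realizes the extension. -/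
theorem exists_base {Y : Scheme.{u}} [IrreducibleSpace ↑Y] :
    ∃ (K : Type u) (_ : Field K) (sK : Spec (CommRingCat.of K) ⟶ Y),
      ∀ (L : Type u) [Field L] [Algebra K L] [FiniteDimensional K L] [IsPurelyInseparable K L],
        ∃ (A' : CommRingCat.{u}) (_ : IsDomain A') (V0 : Y.Opens) (g0 : Spec A' ⟶ (V0 : Scheme.{u}))
          (τ : Spec (CommRingCat.of L) ⟶ Spec A'), (V0 : Set Y).Nonempty ∧ IsFinite g0 ∧ FlatMor.IsUnivHomeo g0 ∧
          Flat τ ∧ IsPreimmersion τ ∧ τ (IsLocalRing.closedPoint L) = genericPoint ↥(Spec A') ∧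
          τ ≫ g0 ≫ V0.ι = Spec.map (CommRingCat.ofHom (algebraMap K L)) ≫ sK := by
  obtain ⟨_, ⟨V0, hV0, rfl⟩, hη, -⟩ := Y.isBasis_affineOpens.exists_subset_of_mem_open
    (Set.mem_univ (genericPoint ↥Y)) isOpen_univ
  let R := Γ(Y, V0)
  let P := (hV0.primeIdealOf ⟨genericPoint ↥Y, hη⟩).asIdeal
  haveI : P.IsPrime := (hV0.primeIdealOf ⟨genericPoint ↥Y, hη⟩).2
  have hmin : ∀ Q : PrimeSpectrum R, P ≤ Q.asIdeal := by
    intro Q
    have h1 : hV0.fromSpec (hV0.primeIdealOf ⟨genericPoint ↥Y, hη⟩) ⤳ hV0.fromSpec Q := by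
      rw [hV0.fromSpec_primeIdealOf]
      exact (genericPoint_spec ↥Y).specializes trivial
    exact (PrimeSpectrum.le_iff_specializes _ _).2
      (hV0.fromSpec.isOpenEmbedding.isInducing.specializes_iff.1 h1)
  let K := FractionRing (R ⧸ P)
  refine ⟨K, inferInstance,
    Spec.map (CommRingCat.ofHom ((algebraMap (R ⧸ P) K).comp (Ideal.Quotient.mk P))) ≫ hV0.fromSpec, ?_⟩
  intro L _ _ _ _
  letI : Algebra (R ⧸ P) L := ((algebraMap K L).comp (algebraMap (R ⧸ P) K)).toAlgebra
  haveI : IsScalarTower (R ⧸ P) K L := .of_algebraMap_eq' rfl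
  obtain ⟨A', hfin, hfrac, hinj, huniq⟩ := exists_model (R ⧸ P) K L
  haveI := hfin
  haveI := hfrac
  let ρ : R →+* A' := (algebraMap (R ⧸ P) A').comp (Ideal.Quotient.mk P)
  have hρfin : ρ.Finite := RingHom.Finite.comp (RingHom.finite_algebraMap.2 hfin)
    (RingHom.Finite.of_surjective _ Ideal.Quotient.mk_surjective)
  have hρ : FlatMor.IsUnivHomeo (Spec.map (CommRingCat.ofHom ρ)) := by
    refine (AWNLib.univHomeo_iff ρ).2 ⟨hρfin.to_isIntegral, fun Q => ?_, fun F _ g₁ g₂ h => huniq F g₁ g₂ ?_⟩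
    · haveI : Algebra.IsIntegral (R ⧸ P) A' := inferInstance
      obtain ⟨Q', hQ'⟩ := (algebraMap_isIntegral_iff.2 ‹Algebra.IsIntegral (R ⧸ P) A'›).comap_surjective hinj
        ⟨Q.asIdeal.map (Ideal.Quotient.mk P), Ideal.map_isPrime_of_surjective Ideal.Quotient.mk_surjective
          (by rw [Ideal.mk_ker]; exact hmin Q)⟩
      refine ⟨Q', PrimeSpectrum.ext ?_⟩
      have := congrArg (fun p : PrimeSpectrum (R ⧸ P) => p.asIdeal.comap (Ideal.Quotient.mk P)) hQ'
      simp only [PrimeSpectrum.comap_asIdeal, Ideal.comap_comap] at this ⊢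
      rw [this, Ideal.comap_map_of_surjective _ Ideal.Quotient.mk_surjective, ← RingHom.ker_eq_comap_bot,
        Ideal.mk_ker, sup_eq_left.2 (hmin Q)]
    · exact Ideal.Quotient.ringHom_ext h
  haveI : IsFinite (Spec.map (CommRingCat.ofHom ρ)) := (IsFinite.SpecMap_iff _).2 hρfin
  haveI : IsDomain A' := inferInstance
  refine ⟨CommRingCat.of A', inferInstance, V0, Spec.map (CommRingCat.ofHom ρ) ≫ hV0.isoSpec.inv,
    Spec.map (CommRingCat.ofHom (algebraMap A' L)), ⟨_, hη⟩, inferInstance, ?_, ?_, ?_, ?_, ?_⟩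
  · obtain ⟨hi, hu, hs⟩ := (Groth.Agent.S0415.result _).1 hρ
    haveI := hi; haveI := hu; haveI := hs
    haveI : UniversallyInjective (Spec.map (CommRingCat.ofHom ρ) ≫ hV0.isoSpec.inv) :=
      MorphismProperty.comp_mem _ _ _ hu inferInstance
    exact (Groth.Agent.S0415.result _).2 ⟨inferInstance, inferInstance, inferInstance⟩
  · rw [Flat.SpecMap_iff]
    exact RingHom.flat_algebraMap_iff.2 (IsLocalization.flat L (nonZeroDivisors A'))
  · exact IsPreimmersion.of_isLocalization (nonZeroDivisors A')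
  · rw [genericPoint_eq_bot_of_affine]
    refine PrimeSpectrum.ext ?_
    show (IsLocalRing.maximalIdeal L).comap (algebraMap A' L) = ⊥
    rw [IsLocalRing.isField_iff_maximalIdeal_eq.1 (Field.toIsField L), ← RingHom.ker_eq_comap_bot]
    exact (RingHom.injective_iff_ker_eq_bot _).1 (IsFractionRing.injective A' L)
  · rw [Category.assoc, hV0.isoSpec_inv_ι, ← Category.assoc, ← Category.assoc, ← Spec.map_comp, ← Spec.map_comp]
    rfl

theorem main {X Y : Scheme.{u}} (f : X ⟶ Y) [IrreducibleSpace ↑Y] [LocallyOfFiniteType f] [QuasiCompact f] :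
    ∃ (V : Y.Opens) (Y' : Scheme.{u}) (g : Y' ⟶ (V : Scheme.{u})) (X' : Scheme.{u}) (r : X' ⟶ pullback f (g ≫ V.ι)) (hY' : IsIntegral Y'),
      (V : Set ↑Y).Nonempty ∧ IsAffine Y' ∧ IsFinite g ∧ FlatMor.IsUnivHomeo g ∧ IsClosedImmersion r ∧ Surjective r ∧ IsReduced X' ∧
      Flat (r ≫ pullback.snd f (g ≫ V.ι)) ∧ LocallyOfFinitePresentation (r ≫ pullback.snd f (g ≫ V.ι)) ∧
      QuasiCompact (r ≫ pullback.snd f (g ≫ V.ι)) ∧ QuasiSeparated (r ≫ pullback.snd f (g ≫ V.ι)) ∧
      GeometricallyReduced ((r ≫ pullback.snd f (g ≫ V.ι)).fiberToSpecResidueField (genericPoint ↑Y')) := by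
  obtain ⟨K, _, sK, hK⟩ := exists_base (Y := Y)
  let XK := pullback f sK
  letI : XK.Over (Spec (CommRingCat.of K)) := ⟨pullback.snd f sK⟩
  haveI : LocallyOfFiniteType (XK ↘ Spec (CommRingCat.of K)) :=
    inferInstanceAs (LocallyOfFiniteType (pullback.snd f sK))
  haveI : IsLocallyNoetherian XK := LocallyOfFiniteType.isLocallyNoetherian (pullback.snd f sK)
  haveI : CompactSpace XK := QuasiCompact.compactSpace_of_compactSpace (pullback.snd f sK)
  haveI : IsNoetherian XK := ⟨⟩
  obtain ⟨L, _, _, _, _, hgr⟩ := Groth.Agent.S1629.result K XK NoetherianSpace.finite_irreducibleComponents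
  obtain ⟨A', _, V0, g0, τ, -, hg0f, hg0u, hτf, hτp, hτη, hτ⟩ := hK L
  haveI := hg0f; haveI := hτf; haveI := hτp
  let g1 := g0 ≫ V0.ι
  let P0 := pullback f g1
  let X0 := P0.nilradical.subscheme
  let r0 : X0 ⟶ P0 := P0.nilradical.subschemeι
  haveI : IsReduced X0 := GeomRedFieldLib.isReduced_nilradical P0
  haveI : Surjective r0 := GeomRedFieldLib.surjective_nilradical P0
  let π0 : X0 ⟶ Spec A' := r0 ≫ pullback.snd f g1
  obtain ⟨U₁, hUd, hUflat, hUlfp⟩ := Groth.Agent.S0414.result π0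
  haveI : IsIntegral (Spec A') := inferInstance
  haveI : QuasiCompact π0 := inferInstance
  obtain ⟨U₂, -, hηU₂, hUqs⟩ := exists_opens_quasiSeparated π0
  haveI := hUflat; haveI := hUlfp; haveI := hUqs
  let U : (Spec A').Opens := U₁ ⊓ U₂
  obtain ⟨hi, hu, hs⟩ := (Groth.Agent.S0415.result g0).1 hg0u
  have hhom : IsHomeomorph g0.base :=
    hg0u _ _ g0 (IsPullback.of_id_snd (f := g0) |>.flip |>.flip)
  have hηU : genericPoint ↥(Spec A') ∈ U := ⟨(genericPoint_spec ↥(Spec A')).mem_open_set_iff U₁.2 |>.2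
    (by simpa using hUd.nonempty), hηU₂⟩
  obtain ⟨V, hV, hηV, hVU⟩ := exists_isAffineOpen_mem_and_subset (X := Y)
    (U := ⟨V0.ι.base '' (g0.base '' (U : Set _)), V0.ι.isOpenEmbedding.isOpenMap _ (hhom.isOpenMap _ U.2)⟩)
    (show g1.base (genericPoint ↥(Spec A')) ∈ V0.ι.base '' (g0.base '' (U : Set _)) from
      ⟨_, ⟨_, hηU, rfl⟩, (Scheme.Hom.comp_apply _ _ _).symm⟩)
  have hVV0 : V ≤ V0 := fun y hy => by
    obtain ⟨z, -, rfl⟩ := hVU hy
    exact z.2
  let W : (Spec A').Opens := g0 ⁻¹ᵁ V0.ι ⁻¹ᵁ V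
  have hηW : genericPoint ↥(Spec A') ∈ W := by
    show V0.ι.base (g0.base _) ∈ V
    rw [← Scheme.Hom.comp_apply]
    exact hηV
  haveI : Nonempty (W : Scheme.{u}) := ⟨⟨_, hηW⟩⟩
  haveI : IsIntegral (W : Scheme.{u}) := isIntegral_of_isOpenImmersion W.ι
  haveI : IsIso (V0.ι ∣_ V) := by
    haveI : Surjective (V0.ι ∣_ V) := ⟨fun y => ⟨⟨⟨y.1, hVV0 y.2⟩, y.2⟩, Subtype.ext (by
      exact (Scheme.Hom.comp_apply _ _ _).symm.trans
        (congrArg (fun φ : ↑(V0.ι ⁻¹ᵁ V) ⟶ Y => φ.base ⟨⟨y.1, hVV0 y.2⟩, y.2⟩) (morphismRestrict_ι V0.ι V)))⟩⟩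
    exact isIso_iff_isOpenImmersion_and_surjective _ |>.2 ⟨inferInstance, inferInstance⟩
  let g : (W : Scheme.{u}) ⟶ (V : Scheme.{u}) := (g0 ∣_ (V0.ι ⁻¹ᵁ V)) ≫ (V0.ι ∣_ V)
  haveI : IsFinite (g0 ∣_ (V0.ι ⁻¹ᵁ V)) :=
    MorphismProperty.of_isPullback (P := @IsFinite) (isPullback_morphismRestrict g0 _).flip hg0f
  haveI : IsAffine (V : Scheme.{u}) := hV
  haveI : IsAffine (W : Scheme.{u}) := isAffine_of_isAffineHom g
  have hgι : g ≫ V.ι = W.ι ≫ g1 := by
    simp only [g, g1, W, Category.assoc, morphismRestrict_ι]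
    rw [← Category.assoc, morphismRestrict_ι, Category.assoc]
  have hguh : FlatMor.IsUnivHomeo g := by
    haveI : UniversallyInjective g0 := hu
    haveI : Surjective g0 := hs
    haveI : UniversallyInjective (V0.ι ∣_ V) := inferInstance
    haveI : UniversallyInjective (g0 ∣_ (V0.ι ⁻¹ᵁ V)) :=
      MorphismProperty.of_isPullback (P := @UniversallyInjective) (isPullback_morphismRestrict g0 _).flip ‹_›
    haveI : Surjective (g0 ∣_ (V0.ι ⁻¹ᵁ V)) :=
      MorphismProperty.of_isPullback (P := @Surjective) (isPullback_morphismRestrict g0 _).flip ‹_›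
    haveI : UniversallyInjective g := MorphismProperty.comp_mem _ _ _ ‹UniversallyInjective (g0 ∣_ _)› ‹_›
    exact (Groth.Agent.S0415.result g).2 ⟨inferInstance, inferInstance, inferInstance⟩
  let m : pullback f (g ≫ V.ι) ⟶ P0 := pullback.lift (pullback.fst _ _) (pullback.snd _ _ ≫ W.ι)
    (by rw [pullback.condition, Category.assoc]; exact congrArg (pullback.snd f (g ≫ V.ι) ≫ ·) hgι)
  have sqm : IsPullback m (pullback.snd f (g ≫ V.ι)) (pullback.snd f g1) W.ι := by
    refine IsPullback.of_right (h₁₂ := pullback.fst f g1) (v₁₃ := f) (h₂₂ := g1) ?_ (pullback.lift_snd _ _ _)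
      (IsPullback.of_hasPullback f g1)
    rw [show m ≫ pullback.fst f g1 = pullback.fst _ _ from pullback.lift_fst _ _ _, ← hgι]
    exact IsPullback.of_hasPullback _ _
  haveI : IsOpenImmersion m := MorphismProperty.of_isPullback (P := @IsOpenImmersion) sqm.flip inferInstance
  let X' := pullback r0 m
  haveI : IsReduced X' := isReduced_of_isOpenImmersion (pullback.fst r0 m)
  let r : X' ⟶ pullback f (g ≫ V.ι) := pullback.snd r0 m
  have sqπ : IsPullback (pullback.fst r0 m) (r ≫ pullback.snd f (g ≫ V.ι)) π0 W.ι :=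
    (IsPullback.of_hasPullback r0 m).paste_vert sqm
  have hWU : W ≤ U := fun z hz => by
    obtain ⟨v, ⟨z', hz', rfl⟩, hv⟩ := hVU (show V0.ι.base (g0.base z) ∈ (V : Set Y) from hz)
    rw [← hhom.injective (V0.ι.isOpenEmbedding.injective hv)]
    exact hz'
  have sqU : ∀ (Z : (Spec A').Opens) (hWZ : W ≤ Z), ∃ l : X' ⟶ ↑(π0 ⁻¹ᵁ Z),
      IsPullback l (r ≫ pullback.snd f (g ≫ V.ι)) (π0 ∣_ Z) ((Spec A').homOfLE hWZ) := by
    intro Z hWZ
    refine ⟨IsOpenImmersion.lift (π0 ⁻¹ᵁ Z).ι (pullback.fst r0 m) ?_,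
      IsPullback.of_right (h₁₂ := (π0 ⁻¹ᵁ Z).ι) (v₁₃ := π0) (h₂₂ := Z.ι) ?_ ?_
        (isPullback_morphismRestrict π0 Z).flip⟩
    · rintro _ ⟨x, rfl⟩
      rw [Scheme.Opens.range_ι]
      show π0.base _ ∈ Z
      rw [← Scheme.Hom.comp_apply, sqπ.w, Scheme.Hom.comp_apply]
      exact hWZ (_ : ↑W).2
    · rw [IsOpenImmersion.lift_fac, Scheme.homOfLE_ι]
      exact sqπ
    · refine (cancel_mono Z.ι).1 ?_
      simp only [Category.assoc, morphismRestrict_ι, IsOpenImmersion.lift_fac_assoc, Scheme.homOfLE_ι]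
      exact sqπ.w.trans (Category.assoc _ _ _)
  obtain ⟨l₁, sq₁⟩ := sqU U₁ (hWU.trans inf_le_left)
  obtain ⟨l₂, sq₂⟩ := sqU U₂ (hWU.trans inf_le_right)
  refine ⟨V, W, g, X', r, inferInstance, ⟨_, hηV⟩, inferInstance, inferInstance, hguh,
    inferInstance, inferInstance, inferInstance,
    MorphismProperty.of_isPullback (P := @Flat) sq₁ hUflat,
    MorphismProperty.of_isPullback (P := @LocallyOfFinitePresentation) sq₁ hUlfp, inferInstance,
    MorphismProperty.of_isPullback (P := @QuasiSeparated) sq₂ hUqs, ?_⟩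
  · let π' := r ≫ pullback.snd f (g ≫ V.ι)
    have hτW : Set.range τ.base ⊆ Set.range W.ι.base := by
      rintro _ ⟨c, rfl⟩
      rw [Scheme.Opens.range_ι, Subsingleton.elim (α := PrimeSpectrum L) c (IsLocalRing.closedPoint L), hτη]
      exact hηW
    let τ' : Spec (CommRingCat.of L) ⟶ (W : Scheme.{u}) := IsOpenImmersion.lift W.ι τ hτW
    have hτ' : τ'.base (IsLocalRing.closedPoint L) = genericPoint ↥(W : Scheme.{u}) := by
      refine W.ι.isOpenEmbedding.injective ?_
      rw [← Scheme.Hom.comp_apply, IsOpenImmersion.lift_fac, hτη, genericPoint_eq_of_isOpenImmersion W.ι]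
    obtain ⟨φ, hφ⟩ : ∃ φ : (W : Scheme.{u}).residueField (genericPoint ↥(W : Scheme.{u})) ⟶ CommRingCat.of L,
        Spec.map φ ≫ (W : Scheme.{u}).fromSpecResidueField _ = τ' := by
      have h := (W : Scheme.{u}).SpecToEquivOfField L |>.symm_apply_apply τ'
      refine ⟨((W : Scheme.{u}).residueFieldCongr hτ'.symm).hom ≫ (((W : Scheme.{u}).SpecToEquivOfField L) τ').2, ?_⟩
      rw [Spec.map_comp, Category.assoc, Scheme.residueFieldCongr_fromSpecResidueField]
      exact h
    letI : Algebra (IsLocalRing.ResidueField ((W : Scheme.{u}).presheaf.stalk (genericPoint ↥(W : Scheme.{u})))) L :=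
      φ.hom.toAlgebra
    refine (Groth.Agent.S4626.result (k := IsLocalRing.ResidueField ((W : Scheme.{u}).presheaf.stalk (genericPoint ↥(W : Scheme.{u})))) (K := L)
      (π'.fiberToSpecResidueField (genericPoint ↥(W : Scheme.{u})))).2 ?_
    have sqA : IsPullback
        (FBase.bcπ (π'.fiberToSpecResidueField (genericPoint ↥(W : Scheme.{u}))) L ≫ π'.fiberι _ ≫ pullback.fst r0 m)
        (FBase.bcStr (π'.fiberToSpecResidueField (genericPoint ↥(W : Scheme.{u}))) L) π0 τ := by
      refine isPullback_congr ((IsPullback.of_hasPullback (π'.fiberToSpecResidueField _) (Spec.map φ)).paste_horiz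
        ((IsPullback.of_hasPullback π' ((W : Scheme.{u}).fromSpecResidueField _)).paste_horiz sqπ)) ?_
      rw [← Category.assoc, hφ, IsOpenImmersion.lift_fac]
    let Q := FBase.bc (π'.fiberToSpecResidueField (genericPoint ↥(W : Scheme.{u}))) L
    let qX : Q ⟶ X0 := FBase.bcπ (π'.fiberToSpecResidueField _) L ≫ π'.fiberι _ ≫ pullback.fst r0 m
    let qs : Q ⟶ Spec (CommRingCat.of L) := FBase.bcStr (π'.fiberToSpecResidueField _) L
    haveI : Flat qX := MorphismProperty.of_isPullback (P := @Flat) sqA.flip hτf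
    haveI : IsPreimmersion qX := MorphismProperty.of_isPullback (P := @IsPreimmersion) sqA.flip hτp
    haveI : IsReduced Q := isReduced_of_flat_isPreimmersion qX
    let sKL := Spec.map (CommRingCat.ofHom (algebraMap K L))
    let PL := pullback (pullback.snd f sK) sKL
    have sqPL : IsPullback (pullback.fst (pullback.snd f sK) sKL ≫ pullback.fst f sK)
        (pullback.snd (pullback.snd f sK) sKL) f (τ ≫ g1) := by
      rw [show τ ≫ g1 = sKL ≫ sK from hτ]
      exact (IsPullback.of_hasPullback (pullback.snd f sK) sKL).paste_horiz (IsPullback.of_hasPullback f sK)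
    let m0 : PL ⟶ P0 := pullback.lift (pullback.fst (pullback.snd f sK) sKL ≫ pullback.fst f sK)
      (pullback.snd (pullback.snd f sK) sKL ≫ τ) (by rw [sqPL.w, Category.assoc])
    have sq0 : IsPullback m0 (pullback.snd (pullback.snd f sK) sKL) (pullback.snd f g1) τ := by
      refine IsPullback.of_right (h₁₂ := pullback.fst f g1) (v₁₃ := f) (h₂₂ := g1) ?_ (pullback.lift_snd _ _ _)
        (IsPullback.of_hasPullback f g1)
      rw [show m0 ≫ pullback.fst f g1 = _ from pullback.lift_fst _ _ _]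
      exact sqPL
    let i : Q ⟶ PL := sq0.lift (qX ≫ r0) qs ((Category.assoc _ _ _).trans sqA.w)
    have sqi : IsPullback qX i r0 m0 := by
      refine IsPullback.of_bot ?_ (sq0.lift_fst _ _ _).symm sq0
      rw [show i ≫ pullback.snd (pullback.snd f sK) sKL = qs from sq0.lift_snd _ _ _]
      exact sqA
    haveI : IsClosedImmersion i := MorphismProperty.of_isPullback (P := @IsClosedImmersion) sqi inferInstance
    haveI : Surjective i := MorphismProperty.of_isPullback (P := @Surjective) sqi ‹_›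
    haveI : IsReduced PL.nilradical.subscheme := GeomRedFieldLib.isReduced_nilradical PL
    haveI : Surjective PL.nilradical.subschemeι := GeomRedFieldLib.surjective_nilradical PL
    obtain ⟨e, he⟩ := MiscFlat6.exists_iso_of_range_eq i PL.nilradical.subschemeι (by
      rw [i.surjective.range_eq, PL.nilradical.subschemeι.surjective.range_eq])
    have hgr' : GeometricallyReduced (PL.nilradical.subschemeι ≫ pullback.snd (pullback.snd f sK) sKL) := hgr
    have : qs = e.hom ≫ PL.nilradical.subschemeι ≫ pullback.snd (pullback.snd f sK) sKL := by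
      rw [← Category.assoc, he]
      exact (sq0.lift_snd _ _ _).symm
    show GeometricallyReduced qs
    rw [this]
    exact MorphismProperty.RespectsIso.precomp (P := @GeometricallyReduced) e.hom _ hgr'

end UHGenRedLib
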