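import Groth.Agent.AWNLib.Basic
import Mathlib.FieldTheory.PurelyInseparable.Basic

/-!
# A finite universal homeomorphism realizing a purely inseparable extension of the function field
-/

set_option autoImplicit false
set_option linter.style.haveILetI false
universe u

open AlgebraicGeometry CategoryTheory

namespace UHGenRedLib

variable (A K L : Type u) [CommRing A] [IsDomain A] [Field K] [Algebra A K] [IsFractionRing A K]
  [Field L] [Algebra K L] [Algebra A L] [IsScalarTower A K L] [FiniteDimensional K L] [IsPurelyInseparable K L]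

include K in
/-- A finite subalgebra of a purely inseparable extension of the fraction field with the same fraction field. -/
theorem exists_model : ∃ A' : Subalgebra A L, Module.Finite A A' ∧ IsFractionRing A' L ∧
    Function.Injective (algebraMap A A') ∧
    ∀ (F : Type u) [Field F] (g₁ g₂ : A' →+* F), g₁.comp (algebraMap A A') = g₂.comp (algebraMap A A') → g₁ = g₂ := by
  classical
  obtain ⟨q, hq⟩ := ExpChar.exists K
  haveI := hq
  let b := Module.finBasis K L
  have hb : ∀ i, ∃ (d : A) (n : ℕ) (a : A), d ≠ 0 ∧ (d • b i) ^ q ^ n = algebraMap A L a := by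
    intro i
    obtain ⟨n, x, hx⟩ := IsPurelyInseparable.pow_mem K q (b i)
    obtain ⟨a, d, rfl⟩ := IsLocalization.exists_mk'_eq (nonZeroDivisors A) x
    refine ⟨d, n, (d : A) ^ (q ^ n - 1) * a, nonZeroDivisors.ne_zero d.2, ?_⟩
    have hn : q ^ n - 1 + 1 = q ^ n := Nat.sub_add_cancel (Nat.one_le_pow _ _ (expChar_pos K q))
    have h1 : algebraMap A L (d : A) * algebraMap K L (IsLocalization.mk' K a d) = algebraMap A L a := by
      rw [IsScalarTower.algebraMap_apply A K L d, ← map_mul, IsLocalization.mk'_spec', ← IsScalarTower.algebraMap_apply]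
    rw [Algebra.smul_def, mul_pow, ← hx, map_mul, map_pow, ← h1]
    conv_lhs => rw [← hn, pow_succ, mul_assoc]
  choose d n a hd hda using hb
  let c : Fin (Module.finrank K L) → L := fun i => d i • b i
  let A' : Subalgebra A L := Algebra.adjoin A (Set.range c)
  have hint : ∀ x ∈ Set.range c, IsIntegral A x := by
    rintro _ ⟨i, rfl⟩
    refine IsIntegral.of_pow (n := q ^ n i) (Nat.one_le_pow _ _ (expChar_pos K q)) ?_
    show IsIntegral A ((d i • b i) ^ q ^ n i)
    rw [hda i]
    exact isIntegral_algebraMap
  have hfin : Module.Finite A A' := Module.Finite.iff_fg.2 (fg_adjoin_of_finite (Set.finite_range c) hint)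
  have hinj : Function.Injective (algebraMap A A') := fun x y h => IsFractionRing.injective A K
    ((algebraMap K L).injective (by
      simpa [← IsScalarTower.algebraMap_apply] using congrArg (Subtype.val : A' → L) h))
  refine ⟨A', hfin, ?_, hinj, fun F _ g₁ g₂ hg => ?_⟩
  · refine IsFractionRing.of_field A' L fun z => ?_
    choose x e hxe using fun i => IsLocalization.exists_mk'_eq (nonZeroDivisors A) (b.repr z i)
    have hD : (∏ i, ((e i : A) * d i)) ≠ 0 :=
      Finset.prod_ne_zero_iff.2 fun i _ => mul_ne_zero (nonZeroDivisors.ne_zero (e i).2) (hd i)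
    have hmem : algebraMap A L (∏ i, ((e i : A) * d i)) * z ∈ A' := by
      rw [← b.sum_repr z, Finset.mul_sum]
      refine Subalgebra.sum_mem _ fun i hi => ?_
      rw [← Finset.mul_prod_erase _ _ hi]
      have : algebraMap A L ((e i : A) * d i * ∏ j ∈ Finset.univ.erase i, ((e j : A) * d j)) * b.repr z i • b i =
          ((∏ j ∈ Finset.univ.erase i, ((e j : A) * d j)) * x i) • c i := by
        rw [← hxe i]
        show _ = _ • (d i • b i)
        rw [Algebra.smul_def, Algebra.smul_def, Algebra.smul_def, map_mul, map_mul, map_mul,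
          IsScalarTower.algebraMap_apply A K L (x i), ← IsLocalization.mk'_spec' K (x i) (e i), map_mul,
          ← IsScalarTower.algebraMap_apply]
        ring
      rw [this]
      exact Subalgebra.smul_mem _ (Algebra.subset_adjoin (Set.mem_range_self i)) _
    refine ⟨⟨_, hmem⟩, algebraMap A A' (∏ i, ((e i : A) * d i)), ?_⟩
    have h0 : algebraMap A L (∏ i, ((e i : A) * d i)) ≠ 0 := by
      rw [IsScalarTower.algebraMap_apply A K L]
      exact fun h => hD (IsFractionRing.injective A K (by rw [map_zero]; exact (algebraMap K L).injective (by rw [map_zero]; exact h)))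
    show z = algebraMap A L (∏ i, ((e i : A) * d i)) * z / algebraMap A L (∏ i, ((e i : A) * d i))
    field_simp
  · haveI : ExpChar A q := RingHom.expChar (algebraMap A K) (IsFractionRing.injective A K) q
    have hc : ∀ i, g₁ ⟨c i, Algebra.subset_adjoin (Set.mem_range_self i)⟩ =
        g₂ ⟨c i, Algebra.subset_adjoin (Set.mem_range_self i)⟩ := by
      intro i
      have hpow : g₁ ⟨c i, Algebra.subset_adjoin (Set.mem_range_self i)⟩ ^ q ^ n i =
          g₂ ⟨c i, Algebra.subset_adjoin (Set.mem_range_self i)⟩ ^ q ^ n i := by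
        rw [← map_pow, ← map_pow, show (⟨c i, _⟩ : A') ^ q ^ n i = algebraMap A A' (a i) from Subtype.ext (hda i)]
        exact DFunLike.congr_fun hg (a i)
      cases (show ExpChar A q by assumption) with
      | zero => simpa using hpow
      | prime hp =>
        haveI : CharP F q := (CharP.charP_iff_prime_eq_zero hp).2 (by
          rw [← map_natCast (g₁.comp (algebraMap A A')), CharP.cast_eq_zero, map_zero])
        haveI : ExpChar F q := ExpChar.prime hp
        exact iterateFrobenius_inj F q (n i) (by rw [iterateFrobenius_def, iterateFrobenius_def]; exact hpow)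
    refine RingHom.ext fun ⟨z, hz⟩ => ?_
    induction hz using Algebra.adjoin_induction with
    | mem y hy => obtain ⟨i, rfl⟩ := hy; exact hc i
    | algebraMap r => exact DFunLike.congr_fun hg r
    | add x y hx hy h1 h2 =>
      show g₁ (⟨x, hx⟩ + ⟨y, hy⟩) = g₂ (⟨x, hx⟩ + ⟨y, hy⟩)
      rw [map_add, map_add, h1, h2]
    | mul x y hx hy h1 h2 =>
      show g₁ (⟨x, hx⟩ * ⟨y, hy⟩) = g₂ (⟨x, hx⟩ * ⟨y, hy⟩)
      rw [map_mul, map_mul, h1, h2]

end UHGenRedLib
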